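import Groth.Agent.EtPointClass.Fibre
import Groth.Agent.EtPtsLib.Opens
/-!
Étale sheaves are the Zariski sheaves satisfying descent along affine surjections.
-/

set_option autoImplicit false
set_option backward.isDefEq.respectTransparency false
set_option backward.isDefEq.respectTransparency.types false

universe w u

open CategoryTheory CategoryTheory.Limits AlgebraicGeometry Opposite

namespace Groth.Agent.EtSheafCrit

open EtPtsLib EtPointClass

variable (X : Scheme.{u})

/-- The Zariski topology on the étale site. -/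
noncomputable abbrev zar : GrothendieckTopology X.Etale :=
  X.smallGrothendieckTopology (P := @IsOpenImmersion)

theorem zar_eq : zar X = (X.smallPretopology (P := @IsOpenImmersion) (Q := EtCoh.etaleMP)).toGrothendieck :=
  Scheme.smallGrothendieckTopology_eq_toGrothendieck_smallPretopology X (fun _ _ f hf => by
    haveI : IsOpenImmersion f := hf
    exact (inferInstance : AlgebraicGeometry.Etale f))

variable {X}

theorem ofArrows_mem_zar {U : X.Etale} {ι : Type*} {W : ι → X.Etale} (π : ∀ i, W i ⟶ U)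
    (hπ : ∀ i, IsOpenImmersion (π i).left) (hc : ∀ x : U.left, ∃ i, x ∈ Set.range (π i).left) :
    Sieve.ofArrows W π ∈ zar X U := by
  rw [zar_eq]
  refine (Scheme.mem_toGrothendieck_smallPretopology _ _).2 fun x => ?_
  obtain ⟨i, y, hy⟩ := hc x
  exact ⟨W i, π i, y, Sieve.ofArrows_mk _ _ i, hπ i, hy⟩

theorem zar_le : zar X ≤ X.smallEtaleTopology := fun U R hR => by
  rw [zar_eq] at hR
  have eX : X.smallEtaleTopology = (X.smallPretopology (P := EtCoh.etaleMP) (Q := EtCoh.etaleMP)).toGrothendieck :=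
    Scheme.smallGrothendieckTopology_eq_toGrothendieck_smallPretopology X le_rfl
  rw [eX]
  refine (Scheme.mem_toGrothendieck_smallPretopology U R).2 fun x => ?_
  obtain ⟨W, g, w, hg, hP, hw⟩ := (Scheme.mem_toGrothendieck_smallPretopology U R).1 hR x
  haveI : IsOpenImmersion g.left := hP
  exact ⟨W, g, w, hg, (inferInstance : AlgebraicGeometry.Etale g.left), hw⟩

theorem singleton_mem {U V : X.Etale} (f : V ⟶ U) [Surjective f.left] :
    Sieve.generate (Presieve.singleton f) ∈ X.smallEtaleTopology U := by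
  have h : Sieve.ofArrows (fun _ : PUnit.{u + 1} => V) (fun _ => f) ∈ X.smallEtaleTopology U := by
    rw [Scheme.ofArrows_mem_smallEtaleTopology_iff]
    exact Set.eq_univ_of_forall fun x => Set.mem_iUnion.2 ⟨⟨⟩, f.left.surjective x⟩
  rwa [Sieve.ofArrows, Presieve.ofArrows_pUnit] at h

variable (F : X.Etaleᵒᵖ ⥤ Type w) (hz : Presieve.IsSheaf (zar X) F)

include hz in
theorem zar_glue {U : X.Etale} {ι : Type*} {W : ι → X.Etale} (π : ∀ i, W i ⟶ U)
    (hπ : ∀ i, IsOpenImmersion (π i).left) (hc : ∀ x : U.left, ∃ i, x ∈ Set.range (π i).left)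
    (x : ∀ i, F.obj (op (W i))) (hx : Presieve.Arrows.Compatible F π x) :
    ∃! t, ∀ i, F.map (π i).op t = x i := by
  have h := hz _ (ofArrows_mem_zar π hπ hc)
  rw [Sieve.ofArrows, ← Presieve.isSheafFor_iff_generate, Presieve.isSheafFor_arrows_iff] at h
  exact h x hx

theorem map_apply_comp {A B C : X.Etale} (f : A ⟶ B) (g : B ⟶ C) (s : F.obj (op C)) :
    F.map f.op (F.map g.op s) = F.map (f ≫ g).op s := by
  rw [op_comp, Functor.map_comp]; rfl

include hz in
theorem zar_ext {U : X.Etale} {ι : Type*} (O : ι → U.left.Opens) (hc : ∀ x : U.left, ∃ i, x ∈ O i)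
    (s t : F.obj (op U)) (h : ∀ i, F.map (incl U (O i)).op s = F.map (incl U (O i)).op t) : s = t := by
  have hc' : ∀ x : U.left, ∃ i, x ∈ Set.range (incl U (O i)).left := fun x =>
    let ⟨i, hi⟩ := hc x
    ⟨i, ⟨x, hi⟩, rfl⟩
  have hx : Presieve.Arrows.Compatible F (fun i => incl U (O i)) (fun i => F.map (incl U (O i)).op s) :=
    fun i j Z gi gj e => by rw [map_apply_comp, map_apply_comp, e]
  exact (zar_glue F hz _ (fun i => inferInstanceAs (IsOpenImmersion (O i).ι)) hc' _ hx).unique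
    (fun i => rfl) (fun i => (h i).symm)

theorem exists_affine_family {A : X.Etale} [IsAffine A.left] (R : Sieve A) (hR : R ∈ X.smallEtaleTopology A) :
    ∃ (ι : Type u) (_ : Finite ι) (W : ι → X.Etale) (π : ∀ i, W i ⟶ A),
      (∀ i, IsAffine (W i).left) ∧ (∀ i, R (π i)) ∧ ∀ x : A.left, ∃ i, x ∈ Set.range (π i).left := by
  choose Y f y hf hy using fun x : A.left => exists_mem_of_covering hR x
  choose O hO hyO hO' using fun x => exists_isAffineOpen_mem_and_subset (show y x ∈ (⊤ : (Y x).left.Opens) from trivial)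
  let g : ∀ x, sub (Y x) (O x) ⟶ A := fun x => incl (Y x) (O x) ≫ f x
  haveI : ∀ x, AlgebraicGeometry.Etale (g x).left := fun x => etale_left (g x)
  obtain ⟨t, ht⟩ := isCompact_univ.elim_finite_subcover (fun x => Set.range (g x).left)
    (fun x => (g x).left.isOpenMap.isOpen_range) (fun x _ => Set.mem_iUnion.2 ⟨x, ⟨y x, hyO x⟩, hy x⟩)
  refine ⟨↥t, inferInstance, fun i => sub (Y i.1) (O i.1), fun i => g i.1, fun i => hO i.1,
    fun i => R.downward_closed (hf i.1) _, fun x => ?_⟩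
  obtain ⟨i, hi, hx⟩ := Set.mem_iUnion₂.1 (ht (Set.mem_univ x))
  exact ⟨⟨i, hi⟩, hx⟩

/-- A disjoint union of étale schemes. -/
noncomputable def sigmaEtale {ι : Type u} (W : ι → X.Etale) : X.Etale :=
  haveI : AlgebraicGeometry.Etale (Sigma.desc fun i => (W i).hom) :=
    IsZariskiLocalAtSource.sigmaDesc (P := @AlgebraicGeometry.Etale) fun i => (W i).prop
  Scheme.Etale.mk (Sigma.desc fun i => (W i).hom)

/-- A component of a disjoint union. -/
noncomputable def sigmaIncl {ι : Type u} (W : ι → X.Etale) (i : ι) : W i ⟶ sigmaEtale W :=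
  MorphismProperty.Over.homMk (Sigma.ι (fun i => (W i).left) i) (Sigma.ι_desc _ _)

/-- The map out of a disjoint union. -/
noncomputable def sigmaOut {ι : Type u} {W : ι → X.Etale} {A : X.Etale} (π : ∀ i, W i ⟶ A) : sigmaEtale W ⟶ A :=
  MorphismProperty.Over.homMk (Sigma.desc fun i => (π i).left) (Sigma.hom_ext _ _ fun i => by
    show Sigma.ι (fun i => (W i).left) i ≫ Sigma.desc (fun i => (π i).left) ≫ A.hom =
      Sigma.ι (fun i => (W i).left) i ≫ Sigma.desc fun i => (W i).hom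
    rw [Sigma.ι_desc_assoc, Sigma.ι_desc]
    exact MorphismProperty.Over.w (π i))

theorem sigmaIncl_out {ι : Type u} {W : ι → X.Etale} {A : X.Etale} (π : ∀ i, W i ⟶ A) (i : ι) :
    sigmaIncl W i ≫ sigmaOut π = π i :=
  MorphismProperty.Over.Hom.ext (Sigma.ι_desc _ _)

theorem sigmaIncl_cover {ι : Type u} (W : ι → X.Etale) (x : (sigmaEtale W).left) :
    ∃ i, x ∈ Set.range (sigmaIncl W i).left := by
  obtain ⟨i, y, hy⟩ := (AlgebraicGeometry.sigmaOpenCover fun i => (W i).left).exists_eq x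
  exact ⟨i, y, hy⟩

variable (hd : ∀ (U V : X.Etale) [IsAffine U.left] [IsAffine V.left] (f : V ⟶ U) [Surjective f.left],
  Presieve.IsSheafFor F (Presieve.singleton f))

include hz hd in
theorem sep_affine {A : X.Etale} [IsAffine A.left] (R : Sieve A) (hR : R ∈ X.smallEtaleTopology A)
    (s t : F.obj (op A)) (h : ∀ ⦃Z : X.Etale⦄ (g : Z ⟶ A), R g → F.map g.op s = F.map g.op t) : s = t := by
  obtain ⟨ι, hfin, W, π, haff, hmem, hcov⟩ := exists_affine_family R hR
  haveI := hfin; haveI := haff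
  haveI : IsAffine (sigmaEtale W).left := inferInstanceAs (IsAffine (∐ fun i => (W i).left))
  haveI : Surjective (sigmaOut π).left := ⟨fun x => by
    obtain ⟨i, y, hy⟩ := hcov x
    exact ⟨(sigmaIncl W i).left y, (congrArg (fun q => q.left y) (sigmaIncl_out π i)).trans hy⟩⟩
  refine (hd A (sigmaEtale W) (sigmaOut π)).isSeparatedFor.ext ?_
  rintro _ _ ⟨⟩
  have hx : Presieve.Arrows.Compatible F (sigmaIncl W) (fun i => F.map (π i).op s) :=
    fun i j Z gi gj e => by
      rw [map_apply_comp, map_apply_comp, ← sigmaIncl_out π i, ← sigmaIncl_out π j, ← Category.assoc, e,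
        Category.assoc]
  refine (zar_glue F hz (sigmaIncl W) (fun i => inferInstanceAs (IsOpenImmersion (Sigma.ι _ i))) (sigmaIncl_cover W)
    _ hx).unique (fun i => ?_) (fun i => ?_)
  · rw [map_apply_comp, sigmaIncl_out]
  · rw [map_apply_comp, sigmaIncl_out, h _ (hmem i)]

include hz hd in
theorem sep {U : X.Etale} (R : Sieve U) (hR : R ∈ X.smallEtaleTopology U)
    (s t : F.obj (op U)) (h : ∀ ⦃Z : X.Etale⦄ (g : Z ⟶ U), R g → F.map g.op s = F.map g.op t) : s = t := by
  refine zar_ext F hz (fun A : U.left.affineOpens => A.1) (fun x => ?_) s t fun A => ?_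
  · obtain ⟨O, hO, hx, -⟩ := exists_isAffineOpen_mem_and_subset (show x ∈ (⊤ : U.left.Opens) from trivial)
    exact ⟨⟨O, hO⟩, hx⟩
  · haveI : IsAffine (sub U A.1).left := A.2
    refine sep_affine F hz hd (R.pullback (incl U A.1)) (X.smallEtaleTopology.pullback_stable _ hR) _ _ ?_
    intro Z g hg
    rw [map_apply_comp, map_apply_comp]
    exact h _ hg

include hz hd in
theorem amalg_affine {A : X.Etale} [IsAffine A.left] (R : Sieve A) (hR : R ∈ X.smallEtaleTopology A)
    (x : Presieve.FamilyOfElements F R.arrows) (hx : x.Compatible) :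
    ∃ s, ∀ ⦃Z : X.Etale⦄ (g : Z ⟶ A) (hg : R g), F.map g.op s = x g hg := by
  obtain ⟨ι, hfin, W, π, haff, hmem, hcov⟩ := exists_affine_family R hR
  haveI := hfin; haveI := haff
  haveI : IsAffine (sigmaEtale W).left := inferInstanceAs (IsAffine (∐ fun i => (W i).left))
  haveI : Surjective (sigmaOut π).left := ⟨fun x => by
    obtain ⟨i, y, hy⟩ := hcov x
    exact ⟨(sigmaIncl W i).left y, (congrArg (fun q => q.left y) (sigmaIncl_out π i)).trans hy⟩⟩
  have hopen : ∀ i, IsOpenImmersion (sigmaIncl W i).left := fun i => inferInstanceAs (IsOpenImmersion (Sigma.ι _ i))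
  have hc : Presieve.Arrows.Compatible F (sigmaIncl W) (fun i => x (π i) (hmem i)) :=
    fun i j Z gi gj e => hx gi gj (hmem i) (hmem j)
      (by rw [← sigmaIncl_out π i, ← sigmaIncl_out π j, ← Category.assoc, e, Category.assoc])
  obtain ⟨y, hy, -⟩ := zar_glue F hz (sigmaIncl W) hopen (sigmaIncl_cover W) _ hc
  have hd' := hd A (sigmaEtale W) (sigmaOut π)
  rw [Presieve.isSheafFor_singleton] at hd'
  obtain ⟨s, hs, -⟩ := hd' y fun {Z} p₁ p₂ e => by
    haveI := hopen
    refine zar_ext F hz (fun ij : ι × ι => p₁.left ⁻¹ᵁ (sigmaIncl W ij.1).left.opensRange ⊓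
      p₂.left ⁻¹ᵁ (sigmaIncl W ij.2).left.opensRange) (fun z => ?_) _ _ fun ij => ?_
    · obtain ⟨i, hi⟩ := sigmaIncl_cover W (p₁.left z)
      obtain ⟨j, hj⟩ := sigmaIncl_cover W (p₂.left z)
      exact ⟨(i, j), hi, hj⟩
    let O := p₁.left ⁻¹ᵁ (sigmaIncl W ij.1).left.opensRange ⊓ p₂.left ⁻¹ᵁ (sigmaIncl W ij.2).left.opensRange
    let a : sub Z O ⟶ W ij.1 := MorphismProperty.Over.homMk
      (IsOpenImmersion.lift (sigmaIncl W ij.1).left (O.ι ≫ p₁.left) (by rintro _ ⟨z, rfl⟩; exact z.2.1))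
      (by
        show _ ≫ (W ij.1).hom = O.ι ≫ Z.hom
        rw [← MorphismProperty.Over.w (sigmaIncl W ij.1), IsOpenImmersion.lift_fac_assoc, Category.assoc,
          MorphismProperty.Over.w p₁])
    let b : sub Z O ⟶ W ij.2 := MorphismProperty.Over.homMk
      (IsOpenImmersion.lift (sigmaIncl W ij.2).left (O.ι ≫ p₂.left) (by rintro _ ⟨z, rfl⟩; exact z.2.2))
      (by
        show _ ≫ (W ij.2).hom = O.ι ≫ Z.hom
        rw [← MorphismProperty.Over.w (sigmaIncl W ij.2), IsOpenImmersion.lift_fac_assoc, Category.assoc,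
          MorphismProperty.Over.w p₂])
    have ha : a ≫ sigmaIncl W ij.1 = incl Z O ≫ p₁ := MorphismProperty.Over.Hom.ext (IsOpenImmersion.lift_fac _ _ _)
    have hb : b ≫ sigmaIncl W ij.2 = incl Z O ≫ p₂ := MorphismProperty.Over.Hom.ext (IsOpenImmersion.lift_fac _ _ _)
    show F.map (incl Z O).op _ = F.map (incl Z O).op _
    rw [map_apply_comp, map_apply_comp, ← ha, ← hb, ← map_apply_comp F a, ← map_apply_comp F b, hy, hy]
    exact hx a b (hmem _) (hmem _)
      (by rw [← sigmaIncl_out π ij.1, ← sigmaIncl_out π ij.2, ← Category.assoc, ha, ← Category.assoc b, hb,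
        Category.assoc, Category.assoc, e])
  refine ⟨s, fun Z g hg => ?_⟩
  have hcov' : Sieve.ofArrows W π ∈ X.smallEtaleTopology A := by
    rw [Scheme.ofArrows_mem_smallEtaleTopology_iff]
    exact Set.eq_univ_of_forall fun a => Set.mem_iUnion.2 (hcov a)
  refine sep F hz hd ((Sieve.ofArrows W π).pullback g) (X.smallEtaleTopology.pullback_stable g hcov') _ _ ?_
  intro Z' h hh
  obtain ⟨_, a, _, ⟨i⟩, e⟩ := hh
  rw [map_apply_comp, ← e, ← map_apply_comp F a, ← sigmaIncl_out π i, ← map_apply_comp F (sigmaIncl W i), hs, hy]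
  exact hx a h (hmem i) hg e

include hz hd in
theorem isSheaf : Presieve.IsSheaf X.smallEtaleTopology F := by
  intro U R hR x hx
  let I := U.left.affineOpens
  have hR' : ∀ A : I, R.pullback (incl U A.1) ∈ X.smallEtaleTopology (sub U A.1) :=
    fun A => X.smallEtaleTopology.pullback_stable _ hR
  have h : ∀ A : I, ∃ s, ∀ ⦃Z : X.Etale⦄ (g : Z ⟶ sub U A.1) (hg : R (g ≫ incl U A.1)),
      F.map g.op s = x (g ≫ incl U A.1) hg := fun A => by
    haveI : IsAffine (sub U A.1).left := A.2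
    exact amalg_affine F hz hd (R.pullback (incl U A.1)) (hR' A) (fun Z g hg => x (g ≫ incl U A.1) hg)
      (fun Y₁ Y₂ Z g₁ g₂ f₁ f₂ h₁ h₂ e => hx g₁ g₂ h₁ h₂ (by rw [← Category.assoc, e, Category.assoc]))
  choose s hs using h
  have hc : ∀ z : U.left, ∃ A : I, z ∈ Set.range (incl U A.1).left := fun z => by
    obtain ⟨O, hO, hz, -⟩ := exists_isAffineOpen_mem_and_subset (show z ∈ (⊤ : U.left.Opens) from trivial)
    exact ⟨⟨O, hO⟩, ⟨z, hz⟩, rfl⟩
  obtain ⟨t, ht, -⟩ := zar_glue F hz (fun A : I => incl U A.1)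
    (fun A => inferInstanceAs (IsOpenImmersion A.1.ι)) hc s fun A B Z gA gB e => by
      refine sep F hz hd ((R.pullback (incl U A.1)).pullback gA)
        (X.smallEtaleTopology.pullback_stable gA (hR' A)) _ _ fun Z' g hg => ?_
      have hgA : R ((g ≫ gA) ≫ incl U A.1) := hg
      have hgB : R ((g ≫ gB) ≫ incl U B.1) := by rwa [Category.assoc, ← e, ← Category.assoc]
      rw [map_apply_comp, map_apply_comp, hs A _ hgA, hs B _ hgB]
      congr 1
      rw [Category.assoc, e, Category.assoc]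
  refine ⟨t, fun Z g hg => ?_, fun t' ht' => sep F hz hd R hR _ _ fun Z g hg => ?_⟩
  · refine zar_ext F hz (fun A : I => g.left ⁻¹ᵁ A.1) (fun z => ?_) _ _ fun A => ?_
    · obtain ⟨O, hO, hz, -⟩ := exists_isAffineOpen_mem_and_subset (show g.left z ∈ (⊤ : U.left.Opens) from trivial)
      exact ⟨⟨O, hO⟩, hz⟩
    let c : sub Z (g.left ⁻¹ᵁ A.1) ⟶ sub U A.1 :=
      factor (incl Z (g.left ⁻¹ᵁ A.1) ≫ g) A.1 (by rintro _ ⟨z, rfl⟩; exact z.2)
    have ec : c ≫ incl U A.1 = incl Z (g.left ⁻¹ᵁ A.1) ≫ g := factor_incl _ _ _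
    rw [map_apply_comp, ← ec, ← map_apply_comp F c, ht A,
      hs A c (by rw [ec]; exact R.downward_closed hg _)]
    have := hx (𝟙 _) (incl Z (g.left ⁻¹ᵁ A.1)) (h₁ := by rw [ec]; exact R.downward_closed hg _) (h₂ := hg)
      (show 𝟙 _ ≫ c ≫ incl U A.1 = _ by rw [Category.id_comp, ec])
    simpa using this
  · rw [ht' g hg]
    refine zar_ext F hz (fun A : I => g.left ⁻¹ᵁ A.1) (fun z => ?_) _ _ fun A => ?_
    · obtain ⟨O, hO, hz, -⟩ := exists_isAffineOpen_mem_and_subset (show g.left z ∈ (⊤ : U.left.Opens) from trivial)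
      exact ⟨⟨O, hO⟩, hz⟩
    let c : sub Z (g.left ⁻¹ᵁ A.1) ⟶ sub U A.1 :=
      factor (incl Z (g.left ⁻¹ᵁ A.1) ≫ g) A.1 (by rintro _ ⟨z, rfl⟩; exact z.2)
    have ec : c ≫ incl U A.1 = incl Z (g.left ⁻¹ᵁ A.1) ≫ g := factor_incl _ _ _
    rw [map_apply_comp F _ g, ← ec, ← map_apply_comp F c, ht A,
      hs A c (by rw [ec]; exact R.downward_closed hg _)]
    have := hx (𝟙 _) (incl Z (g.left ⁻¹ᵁ A.1)) (h₁ := by rw [ec]; exact R.downward_closed hg _) (h₂ := hg)
      (show 𝟙 _ ≫ c ≫ incl U A.1 = _ by rw [Category.id_comp, ec])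
    simpa using this.symm

theorem isSheaf_iff :
    Presieve.IsSheaf X.smallEtaleTopology F ↔ Presieve.IsSheaf (zar X) F ∧
      ∀ (U V : X.Etale) [IsAffine U.left] [IsAffine V.left] (f : V ⟶ U) [Surjective f.left],
        Presieve.IsSheafFor F (Presieve.singleton f) :=
  ⟨fun h => ⟨Presieve.isSheaf_of_le _ zar_le h, fun U V _ _ f _ =>
      (Presieve.isSheafFor_iff_generate _).2 (h _ (singleton_mem f))⟩,
    fun h => isSheaf F h.1 h.2⟩

end Groth.Agent.EtSheafCrit
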